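import Mathlib
import Groth.Agent.H18Pur.Formal.Bij
import Groth.Agent.H24Adic.Basic

/-!
# Finite algebras over a complete ring with the same points on the cover of the thickenings
-/

set_option autoImplicit false

universe u

namespace Groth.Agent.H18Pur.Formal

variable {A : Type u} [CommRing A] [IsNoetherianRing A] {J : Ideal A} [IsAdicComplete J A] {T : Finset A}
  {B S : Type u} [CommRing B] [Algebra A B] [Module.Finite A B] [CommRing S] [Algebra A S]
  (hs : ProSurj T J) (hi : ProInj T J)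

omit [IsAdicComplete J A] [IsNoetherianRing A] [Module.Finite A B] in
theorem Match.congr_mod {Θ : PtMap J T B S} {m : ℕ} {s : S} {β γ : B} (h : Match Θ m s β)
    (hβ : γ - β ∈ J ^ m • (⊤ : Submodule A B)) : Match Θ m s γ := fun c hc => by
  rw [← h c hc]
  exact loc_eq_iff.2 ⟨0, by simpa using hβ⟩

include hs hi in
/-- Every element has a unique partner at all levels. -/
theorem existsUnique_match (D : Coords T B) (Θ : PtMap J T B S) (s : S) : ∃! β : B, ∀ m, Match Θ m s β := by
  haveI : IsAdicComplete J B := Groth.Agent.H24Adic.isAdicComplete_of_finite J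
  choose N hN hu using fun n => match_unique (S := S) (Θ := Θ) hi D n
  choose β hβ using fun n => match_exists (Θ := Θ) hs hi D n s
  -- the partners at the bounding levels form a Cauchy sequence
  let M : ℕ → ℕ := fun n => (Finset.range (n + 1)).sup N
  have hM : ∀ n, N n ≤ M n := fun n => Finset.le_sup (f := N) (Finset.self_mem_range_succ n)
  have hmono : ∀ {a b}, a ≤ b → M a ≤ M b := fun {a b} h =>
    Finset.sup_mono fun x hx => Finset.mem_range.2 ((Finset.mem_range.1 hx).trans_le (by omega))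
  obtain ⟨b, hb⟩ := IsPrecomplete.prec (I := J) inferInstance (f := fun n => β (M n)) fun {m n} h => by
    rw [SModEq.sub_mem]
    exact hu m s _ _ ((hβ (M m)).mono (hM m)) ((hβ (M n)).mono ((hM m).trans (hmono h)))
  refine ⟨b, fun m => ?_, fun γ hγ => ?_⟩
  · refine ((hβ (M m)).mono ((hN m).trans (hM m))).congr_mod ?_
    rw [← neg_mem_iff, neg_sub]
    exact SModEq.sub_mem.1 (hb m)
  · refine sub_eq_zero.1 (IsHausdorff.haus (I := J) inferInstance _ fun m => ?_)
    rw [SModEq.zero, ← sub_add_sub_cancel γ (β (M m)) b]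
    exact Submodule.add_mem _ (hu m s _ _ (hγ _) ((hβ (M m)).mono (hM m))) (SModEq.sub_mem.1 (hb m))

include hs hi in
/-- Finite algebras with mutually inverse maps of points on the cover of the thickenings are isomorphic. -/
theorem nonempty_algEquiv_of_ptMaps [Module.Finite A S] (DB : Coords T B) (DS : Coords T S)
    (Θ : PtMap J T B S) (Ψ : PtMap J T S B) (hinv : Θ.Inverse Ψ) : Nonempty (S ≃ₐ[A] B) := by
  choose φ hφ hφu using fun s => existsUnique_match hs hi DB Θ s
  choose ψ hψ hψu using fun b => existsUnique_match hs hi DS Ψ b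
  simp only at hφ hψ
  let F : S →ₐ[A] B :=
    { toFun := φ
      map_one' := (hφu 1 1 fun m => by simpa using Match.algebraMap (Θ := Θ) m 1).symm
      map_mul' := fun s t => (hφu (s * t) _ fun m => (hφ s m).mul (hφ t m)).symm
      map_zero' := (hφu 0 0 fun m => by simpa using Match.algebraMap (Θ := Θ) m 0).symm
      map_add' := fun s t => (hφu (s + t) _ fun m => (hφ s m).add (hφ t m)).symm
      commutes' := fun a => (hφu _ _ fun m => Match.algebraMap m a).symm }
  refine ⟨AlgEquiv.ofBijective F ⟨Function.LeftInverse.injective (g := ψ) fun s => ?_,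
    Function.RightInverse.surjective (g := ψ) fun b => ?_⟩⟩
  · exact (hψu (φ s) s fun m c hc => (hinv.val_eq hc (hφ s m c hc)).symm).symm
  · exact (hφu (ψ b) b fun m c hc => (hinv.symm.val_eq hc (hψ b m c hc)).symm).symm

/-- Algebras étale on the cover with the same points modulo `J` there have the same points over
nilpotent thickenings. -/
theorem exists_ptMaps_of_away {A : Type u} [CommRing A] {J : Ideal A} {T : Finset A} {B S : Type u} [CommRing B]
    [Algebra A B] [CommRing S] [Algebra A S]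
    (hB : ∀ c ∈ T, Algebra.Etale A (Localization.Away (algebraMap A B c)))
    (hS : ∀ c ∈ T, Algebra.Etale A (Localization.Away (algebraMap A S c)))
    (ε : ∀ (C : Type u) [CommRing C] [Algebra A C], J.map (algebraMap A C) = ⊥ →
      (∃ c ∈ T, IsUnit (algebraMap A C c)) → (B →ₐ[A] C) ≃ (S →ₐ[A] C))
    (hε : ∀ (C C' : Type u) [CommRing C] [Algebra A C] [CommRing C'] [Algebra A C'] (G : C →ₐ[A] C')
      (h₁ : J.map (algebraMap A C) = ⊥) (h₂ : ∃ c ∈ T, IsUnit (algebraMap A C c))
      (h₁' : J.map (algebraMap A C') = ⊥) (h₂' : ∃ c ∈ T, IsUnit (algebraMap A C' c))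
      (g : B →ₐ[A] C), ε C' h₁' h₂' (G.comp g) = G.comp (ε C h₁ h₂ g)) :
    ∃ (Θ : PtMap J T B S) (Ψ : PtMap J T S B), Θ.Inverse Ψ := by
  classical
  let π : ∀ (C : Type u) [CommRing C] [Algebra A C], C →ₐ[A] C ⧸ J.map (algebraMap A C) :=
    fun C _ _ => Ideal.Quotient.mkₐ A _
  have hq : ∀ (C : Type u) [CommRing C] [Algebra A C],
      J.map (algebraMap A (C ⧸ J.map (algebraMap A C))) = ⊥ := fun C _ _ => by
    simpa using map_quot_eq_bot (J := J) (C := C)
  have hu : ∀ (C : Type u) [CommRing C] [Algebra A C], (∃ c ∈ T, IsUnit (algebraMap A C c)) →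
      ∃ c ∈ T, IsUnit (algebraMap A (C ⧸ J.map (algebraMap A C)) c) := fun C _ _ ⟨c, hc, h⟩ =>
    ⟨c, hc, by have := h.map (π C); rwa [AlgHom.commutes] at this⟩
  have fwd : ∀ (C : Type u) [CommRing C] [Algebra A C] (h₁ : ∃ n, (J ^ n).map (algebraMap A C) = ⊥)
      (h₂ : ∃ c ∈ T, IsUnit (algebraMap A C c)) (g : B →ₐ[A] C),
      ∃ g' : S →ₐ[A] C, (π C).comp g' = ε _ (hq C) (hu C h₂) ((π C).comp g) ∧
        ∀ g'' : S →ₐ[A] C, (π C).comp g'' = ε _ (hq C) (hu C h₂) ((π C).comp g) → g'' = g' := by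
    intro C _ _ h₁ h₂ g
    obtain ⟨c, hc, hu'⟩ := id h₂
    haveI := hS c hc
    obtain ⟨g', hg'⟩ := exists_lift_of_away (c := c) inferInstance
      (by have := hu'.map (π C); rwa [AlgHom.commutes] at this) (π C) (Ideal.Quotient.mkₐ_surjective A _)
      (ker_mk_nilpotent h₁) (ε _ (hq C) (hu C h₂) ((π C).comp g))
    exact ⟨g', hg', fun g'' h => lift_unique_of_away (c := c) inferInstance hu' (π C) (ker_mk_nilpotent h₁)
      (h.trans hg'.symm)⟩
  have bwd : ∀ (C : Type u) [CommRing C] [Algebra A C] (h₁ : ∃ n, (J ^ n).map (algebraMap A C) = ⊥)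
      (h₂ : ∃ c ∈ T, IsUnit (algebraMap A C c)) (h : S →ₐ[A] C),
      ∃ g' : B →ₐ[A] C, (π C).comp g' = (ε _ (hq C) (hu C h₂)).symm ((π C).comp h) ∧
        ∀ g'' : B →ₐ[A] C, (π C).comp g'' = (ε _ (hq C) (hu C h₂)).symm ((π C).comp h) → g'' = g' := by
    intro C _ _ h₁ h₂ h
    obtain ⟨c, hc, hu'⟩ := id h₂
    haveI := hB c hc
    obtain ⟨g', hg'⟩ := exists_lift_of_away (c := c) inferInstance
      (by have := hu'.map (π C); rwa [AlgHom.commutes] at this) (π C) (Ideal.Quotient.mkₐ_surjective A _)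
      (ker_mk_nilpotent h₁) ((ε _ (hq C) (hu C h₂)).symm ((π C).comp h))
    exact ⟨g', hg', fun g'' h => lift_unique_of_away (c := c) inferInstance hu' (π C) (ker_mk_nilpotent h₁)
      (h.trans hg'.symm)⟩
  choose F hF hFu using fwd
  choose G hG hGu using bwd
  beta_reduce at hF hFu hG hGu
  let induced : ∀ (C C' : Type u) [CommRing C] [Algebra A C] [CommRing C'] [Algebra A C'] (H : C →ₐ[A] C'),
      ∃ H₀ : C ⧸ J.map (algebraMap A C) →ₐ[A] C' ⧸ J.map (algebraMap A C'), H₀.comp (π C) = (π C').comp H :=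
    fun C C' _ _ _ _ H => ⟨Ideal.Quotient.liftₐ _ ((π C').comp H) (fun a ha => by
      have : J.map (algebraMap A C) ≤ RingHom.ker ((π C').comp H) := by
        rw [Ideal.map_le_iff_le_comap]
        intro j hj
        rw [Ideal.mem_comap, RingHom.mem_ker, AlgHom.commutes]
        exact (hq C').le (Ideal.mem_map_of_mem _ hj)
      exact this ha), Ideal.Quotient.liftₐ_comp _ _ _⟩
  refine ⟨⟨fun C _ _ => F C, ?_⟩, ⟨fun C _ _ => G C, ?_⟩, fun C _ _ h₁ h₂ => ⟨fun g => ?_, fun h => ?_⟩⟩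
  · intro C C' _ _ _ _ H h₁ h₂ h₁' h₂' g
    obtain ⟨H₀, hH₀⟩ := induced C C' H
    refine (hFu C' h₁' h₂' (H.comp g) _ ?_).symm
    beta_reduce
    rw [← AlgHom.comp_assoc, ← hH₀, AlgHom.comp_assoc, hF C h₁ h₂ g,
      ← hε _ _ H₀ (hq C) (hu C h₂) (hq C') (hu C' h₂'), ← AlgHom.comp_assoc, hH₀, AlgHom.comp_assoc]
  · intro C C' _ _ _ _ H h₁ h₂ h₁' h₂' h
    obtain ⟨H₀, hH₀⟩ := induced C C' H
    refine (hGu C' h₁' h₂' (H.comp h) _ ?_).symm
    beta_reduce
    rw [← AlgHom.comp_assoc, ← hH₀, AlgHom.comp_assoc, hG C h₁ h₂ h]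
    refine (ε _ (hq C') (hu C' h₂')).injective ?_
    rw [hε _ _ H₀ (hq C) (hu C h₂) (hq C') (hu C' h₂'), Equiv.apply_symm_apply, Equiv.apply_symm_apply,
      ← AlgHom.comp_assoc, hH₀, AlgHom.comp_assoc]
  · exact (hGu C h₁ h₂ _ g (by rw [hF, Equiv.symm_apply_apply])).symm
  · exact (hFu C h₁ h₂ _ h (by rw [hG, Equiv.apply_symm_apply])).symm

end Groth.Agent.H18Pur.Formal
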