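import Mathlib
import Groth.Prelude.Def_FEt
import Groth.Agent.H05EGA4.ClosedAlong
import Groth.Agent.H4Depth.SkFree
import Groth.Agent.H18Pur.Formal.Cech
import Groth.Agent.H18Pur.S2Sections

/-!
# The sections of a cover of an open subscheme with complement of depth two
-/

set_option autoImplicit false
set_option backward.isDefEq.respectTransparency false

universe u

open CategoryTheory CategoryTheory.Limits AlgebraicGeometry

namespace Groth.Agent.H18Pur.Formal

variable {A : Type u} [CommRing A] [IsNoetherianRing A] (U : (Spec (CommRingCat.of A)).Opens)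

/-- Depth two outside `U`. -/
def DepthOutside : Prop :=
  ∀ p : PrimeSpectrum A, p ∉ U →
    (2 : ℕ∞) ≤ LocCoh.depth (Localization.AtPrime p.asIdeal) (Localization.AtPrime p.asIdeal)

variable {U}

omit [IsNoetherianRing A] in
theorem exists_notMem_of_mem {I : Ideal A} (hI : ∀ p : PrimeSpectrum A, p ∈ U ↔ ¬ I ≤ p.asIdeal) {T : Finset A}
    (hT : Ideal.span (T : Set A) = I) {p : PrimeSpectrum A} (hp : p ∈ U) : ∃ c ∈ T, c ∉ p.asIdeal := by
  by_contra! h
  exact (hI p).1 hp (by rw [← hT, Ideal.span_le]; exact h)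

omit [IsNoetherianRing A] in
theorem mem_of_notMem {I : Ideal A} (hI : ∀ p : PrimeSpectrum A, p ∈ U ↔ ¬ I ≤ p.asIdeal) {c : A} (hc : c ∈ I)
    {p : PrimeSpectrum A} (hp : c ∉ p.asIdeal) : p ∈ U :=
  (hI p).2 fun h => hp (h hc)

/-- Depth two outside `U`: the functions on `U` are those of the ring. -/
theorem isIso_sections_open (hU : DepthOutside U) :
    IsIso ((Scheme.ΓSpecIso (CommRingCat.of A)).inv ≫ U.ι.appTop) := by
  obtain ⟨J, hJ'⟩ : ∃ J : Ideal A, U = Groth.Agent.H05EGA4.ClosedAlong.UJ A J :=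
    ⟨PrimeSpectrum.vanishingIdeal {p : PrimeSpectrum A | p ∉ U}, TopologicalSpace.Opens.ext (Set.ext fun p => by
      show p ∈ U ↔ ¬ PrimeSpectrum.vanishingIdeal {p : PrimeSpectrum A | p ∉ U} ≤ p.asIdeal
      rw [← SetLike.coe_subset_coe, ← PrimeSpectrum.mem_zeroLocus, PrimeSpectrum.zeroLocus_vanishingIdeal_eq_closure,
        IsClosed.closure_eq (s := {p : PrimeSpectrum A | p ∉ U}) U.isOpen.isClosed_compl]
      exact not_not.symm)⟩
  have hb : Function.Bijective (StructureSheaf.toOpenₗ A A (Groth.Agent.H05EGA4.ClosedAlong.UJ A J)) := by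
    refine Groth.Agent.H1CAlg.bijective_of_depth_two _ fun p hp => ?_
    by_cases hle : J ≤ p
    · refine Or.inr ⟨?_, Groth.Agent.H05EGA4.ClosedAlong.notMem_associatedPrimes J p hle⟩
      obtain ⟨e⟩ := Groth.Agent.H4Depth.exists_localizedModule_self_equiv p
      rw [Groth.Agent.H4Depth.depth_congr e]
      exact hU ⟨p, inferInstance⟩ fun h => by rw [hJ'] at h; exact h hle
    · exact Or.inl (Groth.Agent.H05EGA4.ClosedAlong.bijective_map J p hle)
  have key : ∀ W : (Spec (CommRingCat.of A)).Opens, W = Groth.Agent.H05EGA4.ClosedAlong.UJ A J →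
      IsIso ((Spec (CommRingCat.of A)).presheaf.map (homOfLE (le_top : W ≤ ⊤)).op) := by
    rintro W rfl
    rw [ConcreteCategory.isIso_iff_bijective]
    exact (Function.Bijective.of_comp_iff _
      (StructureSheaf.toOpenₗ_top_bijective (R := A) (M := A))).1 hb
  have h1 := key (U.ι ''ᵁ ⊤) (by rw [Scheme.Hom.image_top_eq_opensRange, Scheme.Opens.opensRange_ι]; exact hJ')
  rw [Scheme.Opens.ι_appTop]
  exact IsIso.comp_isIso

/-- The structure map of the sections. -/
noncomputable def sectionsMapOpen (V : FEt.Cat (U : Scheme.{u})) : CommRingCat.of A ⟶ Γ(V.left, ⊤) :=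
  (Scheme.ΓSpecIso (CommRingCat.of A)).inv ≫ (V.hom ≫ U.ι).appTop

/-- The sections form a finite saturated module. -/
theorem sections_finite_sat_open (hU : DepthOutside U) {I : Ideal A}
    (hI : ∀ p : PrimeSpectrum A, p ∈ U ↔ ¬ I ≤ p.asIdeal) (hrad : I.IsRadical) (V : FEt.Cat (U : Scheme.{u})) :
    letI : Algebra A Γ(V.left, ⊤) := (sectionsMapOpen V).hom.toAlgebra
    Module.Finite A Γ(V.left, ⊤) ∧ ∃ x, Sat I Γ(V.left, ⊤) x := by
  letI : Algebra A Γ(V.left, ⊤) := (sectionsMapOpen V).hom.toAlgebra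
  let g : V.left ⟶ (U : Scheme.{u}) := V.hom
  haveI : IsFinite g := V.prop.1
  haveI : Etale g := V.prop.2
  haveI : IsNoetherianRing (CommRingCat.of A) := ‹IsNoetherianRing A›
  have hd : ∀ x : Spec (CommRingCat.of A), x ∉ U →
      (2 : ℕ∞) ≤ LocCoh.depth ((Spec (CommRingCat.of A)).presheaf.stalk x) ((Spec (CommRingCat.of A)).presheaf.stalk x) := by
    intro x hx
    let e : Localization.AtPrime x.asIdeal ≃+* (Spec (CommRingCat.of A)).presheaf.stalk x :=
      (StructureSheaf.stalkIso A x).toRingEquiv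
    rw [← Groth.Agent.H05EGA4.depth_eq_of_ringEquiv e]
    exact hU x hx
  obtain ⟨hfin, I', x, hxI, hIp, hxR, hsat⟩ := sections_finite_and_saturated U hd g
    (isAffineOpen_top (Spec (CommRingCat.of A)))
  let e : A ≃+* Γ(Spec (CommRingCat.of A), ⊤) :=
    (Scheme.ΓSpecIso (CommRingCat.of A)).symm.commRingCatIsoToRingEquiv
  have hfin' : ((g ≫ U.ι).app ⊤).hom.Finite := hfin
  refine ⟨RingHom.finite_algebraMap.1 (RingHom.Finite.comp hfin' (RingHom.Finite.of_surjective _ e.surjective)), ?_⟩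
  obtain ⟨x₀, rfl⟩ := e.surjective x
  have hle : ∀ y ∈ I', e.symm y ∈ I := fun y hy => by
    rw [← hrad.radical, Ideal.radical_eq_sInf, Submodule.mem_sInf]
    rintro p ⟨hIpp, hp⟩
    let q : PrimeSpectrum Γ(Spec (CommRingCat.of A), ⊤) := ⟨Ideal.comap e.symm.toRingHom p, Ideal.IsPrime.comap _⟩
    refine hIp q ?_ hy
    intro hmem
    have hq : (isAffineOpen_top (Spec (CommRingCat.of A))).fromSpec q = (⟨p, hp⟩ : PrimeSpectrum A) := by
      rw [IsAffineOpen.fromSpec_top, Scheme.isoSpec_Spec_inv]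
      refine PrimeSpectrum.ext ?_
      show (Ideal.comap e.symm.toRingHom p).comap e.toRingHom = p
      rw [Ideal.comap_comap, show e.symm.toRingHom.comp e.toRingHom = RingHom.id A from
        RingHom.ext e.symm_apply_apply, Ideal.comap_id]
    have this : (⟨p, hp⟩ : PrimeSpectrum A) ∈ U := hq ▸ hmem
    exact (hI _).1 this hIpp
  refine ⟨x₀, sat_of_sat_one ?_ ?_ ?_⟩
  · simpa using hle _ hxI
  · exact fun a b h => hxR h
  · intro z hz
    obtain ⟨w, hw⟩ := hsat z fun y hy => by
      obtain ⟨w, hw⟩ := hz (e.symm y) (hle y hy)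
      refine ⟨w, ?_⟩
      obtain ⟨y₀, rfl⟩ := e.surjective y
      rw [RingEquiv.symm_apply_apply] at hw
      exact hw
    exact ⟨w, hw⟩

/-- The sections are étale wherever an element cutting an open inside `U` is inverted. -/
theorem sections_etale_away_open (hU : DepthOutside U) (V : FEt.Cat (U : Scheme.{u})) :
    letI : Algebra A Γ(V.left, ⊤) := (sectionsMapOpen V).hom.toAlgebra
    IsPullback V.hom V.left.toSpecΓ U.ι
        (Spec.map (CommRingCat.ofHom (algebraMap A Γ(V.left, ⊤)))) ∧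
      ∀ c : A, (∀ p : PrimeSpectrum A, c ∉ p.asIdeal → p ∈ U) →
        Algebra.Etale A (Localization.Away (algebraMap A Γ(V.left, ⊤) c)) := by
  letI : Algebra A Γ(V.left, ⊤) := (sectionsMapOpen V).hom.toAlgebra
  let φ := sectionsMapOpen V
  let ρ := (Scheme.ΓSpecIso (CommRingCat.of A)).inv ≫ U.ι.appTop
  haveI : IsIso ρ := isIso_sections_open hU
  haveI : IsNoetherianRing (CommRingCat.of A) := ‹IsNoetherianRing A›
  haveI : CompactSpace (U : Scheme.{u}) := isCompact_iff_compactSpace.mp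
    (TopologicalSpace.NoetherianSpace.isCompact (U : Set (Spec (CommRingCat.of A))))
  haveI : (U : Scheme.{u}).IsQuasiAffine := Scheme.IsQuasiAffine.of_isImmersion U.ι
  have hU' : (U : Scheme.{u}).toSpecΓ ≫ Spec.map ρ = U.ι := by
    rw [Spec.map_comp, ← Scheme.toSpecΓ_naturality_assoc, toSpecΓ_SpecMap_ΓSpecIso_inv, Category.comp_id]
  have hφ : Spec.map V.hom.appTop ≫ Spec.map ρ = Spec.map φ := by
    rw [← Spec.map_comp]
    congr 1
  let g : V.left ⟶ (U : Scheme.{u}) := V.hom
  haveI : IsFinite g := V.prop.1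
  haveI : Etale g := V.prop.2
  have hpb : IsPullback g V.left.toSpecΓ U.ι (Spec.map φ) :=
    (Scheme.isPullback_toSpecΓ_toSpecΓ g).of_iso (Iso.refl _) (Iso.refl _) (Iso.refl _)
      (asIso (Spec.map ρ)) (by simp [g]; try rfl) (by simp) (by simpa using hU') (by simpa using hφ)
  refine ⟨hpb, fun c hc => ?_⟩
  let Bc := Localization.Away (algebraMap A Γ(V.left, ⊤) c)
  let j : Spec (CommRingCat.of Bc) ⟶ Spec Γ(V.left, ⊤) :=
    Spec.map (CommRingCat.ofHom (algebraMap Γ(V.left, ⊤) Bc))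
  haveI : IsOpenImmersion j := inferInstance
  haveI : IsOpenImmersion V.left.toSpecΓ := MorphismProperty.of_isPullback hpb (inferInstance : IsOpenImmersion U.ι)
  have hrange : Set.range (j ≫ Spec.map φ) ⊆ Set.range U.ι := by
    rintro _ ⟨p, rfl⟩
    rw [U.range_ι]
    refine hc _ ?_
    show c ∉ (p.asIdeal.comap (algebraMap Γ(V.left, ⊤) Bc)).comap φ.hom
    exact fun h => p.isPrime.ne_top (Ideal.eq_top_of_isUnit_mem _ h (IsLocalization.Away.algebraMap_isUnit _))
  let l : Spec (CommRingCat.of Bc) ⟶ V.left :=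
    hpb.lift (IsOpenImmersion.lift U.ι (j ≫ Spec.map φ) hrange) j (IsOpenImmersion.lift_fac _ _ _)
  have hl : l ≫ V.left.toSpecΓ = j := hpb.lift_snd _ _ _
  haveI : IsOpenImmersion (l ≫ V.left.toSpecΓ) := by rw [hl]; infer_instance
  haveI : IsOpenImmersion l := IsOpenImmersion.of_comp l V.left.toSpecΓ
  have hcomp : j ≫ Spec.map φ = l ≫ g ≫ U.ι := by rw [← hl, Category.assoc, hpb.w]
  have het : Etale (j ≫ Spec.map φ) := by rw [hcomp]; infer_instance
  rw [← Spec.map_comp] at het
  have h1 := (HasRingHomProperty.Spec_iff (P := @Etale)).1 het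
  exact RingHom.etale_algebraMap.1 h1

end Groth.Agent.H18Pur.Formal
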