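import Mathlib
import Groth.Prelude.Def_FEt
import Groth.Agent.H18Et.FEtRestrictGamma
import Groth.Agent.H18Pur.Formal.Extend
import Groth.Agent.H18Pur.Formal.Idem
import Groth.Agent.H18Pur.PS.AlgEquiv
import Groth.Agent.H18Pur.PS.Open

/-!
# Clopens descend from the closed subset modulo `J`
-/

set_option autoImplicit false
set_option backward.isDefEq.respectTransparency false

universe u

open CategoryTheory CategoryTheory.Limits AlgebraicGeometry
open Groth.Agent.H18Et.FEtRestrict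

namespace Groth.Agent.H18Pur.Formal

variable {A : Type u} [CommRing A] [IsNoetherianRing A]

theorem exists_idem_of_complete {J : Ideal A} [IsAdicComplete J A]
    {T : Finset A} {B : Type u} [CommRing B] [Algebra A B] [Module.Finite A B] (hs : ProSurj T J) (hi : ProInj T J)
    (D : Coords T B)
    (E : ∀ (C : Type u) [CommRing C] [Algebra A C], J.map (algebraMap A C) = ⊥ →
      (∃ c ∈ T, IsUnit (algebraMap A C c)) → (B →ₐ[A] C) → C)
    (hE : ∀ (C : Type u) [CommRing C] [Algebra A C] (h₁ : J.map (algebraMap A C) = ⊥)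
      (h₂ : ∃ c ∈ T, IsUnit (algebraMap A C c)) (g : B →ₐ[A] C), IsIdempotentElem (E C h₁ h₂ g))
    (hnat : ∀ (C C' : Type u) [CommRing C] [Algebra A C] [CommRing C'] [Algebra A C'] (G : C →ₐ[A] C')
      (h₁ : J.map (algebraMap A C) = ⊥) (h₂ : ∃ c ∈ T, IsUnit (algebraMap A C c))
      (h₁' : J.map (algebraMap A C') = ⊥) (h₂' : ∃ c ∈ T, IsUnit (algebraMap A C' c))
      (g : B →ₐ[A] C), E C' h₁' h₂' (G.comp g) = G (E C h₁ h₂ g)) :
    ∃ e : B, IsIdempotentElem e ∧ ∀ (C : Type u) [CommRing C] [Algebra A C] (h₁ : J.map (algebraMap A C) = ⊥)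
      (h₂ : ∃ c ∈ T, IsUnit (algebraMap A C c)) (g : B →ₐ[A] C), g e = E C h₁ h₂ g := by
  classical
  let π : ∀ (C : Type u) [CommRing C] [Algebra A C], C →ₐ[A] C ⧸ J.map (algebraMap A C) :=
    fun C _ _ => Ideal.Quotient.mkₐ A _
  have hq : ∀ (C : Type u) [CommRing C] [Algebra A C],
      J.map (algebraMap A (C ⧸ J.map (algebraMap A C))) = ⊥ := fun C _ _ => by
    simpa using map_quot_eq_bot (J := J) (C := C)
  have hu : ∀ (C : Type u) [CommRing C] [Algebra A C], (∃ c ∈ T, IsUnit (algebraMap A C c)) →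
      ∃ c ∈ T, IsUnit (algebraMap A (C ⧸ J.map (algebraMap A C)) c) := fun C _ _ ⟨c, hc, h⟩ =>
    ⟨c, hc, by have := h.map (π C); rwa [AlgHom.commutes] at this⟩
  have lift : ∀ (C : Type u) [CommRing C] [Algebra A C] (_ : ∃ n, (J ^ n).map (algebraMap A C) = ⊥)
      (h₂ : ∃ c ∈ T, IsUnit (algebraMap A C c)) (g : B →ₐ[A] C),
      ∃! e : C, IsIdempotentElem e ∧ π C e = E _ (hq C) (hu C h₂) ((π C).comp g) := by
    intro C _ _ h₁ h₂ g
    have hnil : ∀ x ∈ RingHom.ker (π C).toRingHom, IsNilpotent x := fun x hx => by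
      obtain ⟨n, hn⟩ := ker_mk_nilpotent h₁
      exact ⟨n, Ideal.mem_bot.1 (hn.le (Ideal.pow_mem_pow hx n))⟩
    obtain ⟨e, he, he'⟩ := exists_isIdempotentElem_eq_of_ker_isNilpotent (π C).toRingHom hnil _
      (Ideal.Quotient.mkₐ_surjective A _ _) (hE _ (hq C) (hu C h₂) ((π C).comp g))
    exact ⟨e, ⟨he, he'⟩, fun e₁ h => eq_of_isNilpotent_sub_of_isIdempotentElem h.1 he
      (hnil _ (by rw [RingHom.mem_ker, map_sub]; exact sub_eq_zero.2 (h.2.trans he'.symm)))⟩
  choose F hF hFu using lift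
  beta_reduce at hF hFu
  let Θ : PtMap J T B (A × A) :=
    ⟨fun C _ _ h₁ h₂ g => idemHom (F C h₁ h₂ g) (hF C h₁ h₂ g).1, fun C C' _ _ _ _ G h₁ h₂ h₁' h₂' g => by
      have key : F C' h₁' h₂' (G.comp g) = G (F C h₁ h₂ g) := by
        symm
        refine hFu C' h₁' h₂' _ _ ⟨(hF C h₁ h₂ g).1.map G, ?_⟩
        let G₀ : C ⧸ J.map (algebraMap A C) →ₐ[A] C' ⧸ J.map (algebraMap A C') :=
          Ideal.Quotient.liftₐ _ ((π C').comp G) fun a ha => by
            have : J.map (algebraMap A C) ≤ RingHom.ker ((π C').comp G) := by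
              rw [Ideal.map_le_iff_le_comap]
              intro j hj
              rw [Ideal.mem_comap, RingHom.mem_ker, AlgHom.commutes]
              exact (hq C').le (Ideal.mem_map_of_mem _ hj)
            exact this ha
        show G₀ (π C (F C h₁ h₂ g)) = _
        rw [(hF C h₁ h₂ g).2, ← hnat _ _ G₀ (hq C) (hu C h₂) (hq C') (hu C' h₂')]
        rfl
      rw [idemHom_comp]
      congr 1⟩
  obtain ⟨e, he, hu'⟩ := existsUnique_match hs hi D Θ (1, 0)
  refine ⟨e, hu' _ fun m => by simpa using (he m).mul (he m), fun C _ _ h₁ h₂ g => ?_⟩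
  have h₁' : ∃ n, (J ^ n).map (algebraMap A C) = ⊥ := ⟨1, by rwa [pow_one]⟩
  obtain ⟨c, hc, hcu⟩ := id h₂
  obtain ⟨G, hG⟩ := loc_lift (J := J) (n := 1) (c := c) (by rwa [pow_one]) hcu g
  have h5 : g e = F C h₁' h₂ g := by
    rw [← hG, AlgHom.comp_apply, (he 1) c hc, Θ.val_natural hc G h₁' h₂, hG]
    exact idemHom_apply (F C h₁' h₂ g) (hF C h₁' h₂ g).1
  have hπ : Function.Injective (π C) :=
    (injective_iff_map_eq_zero _).2 fun x hx => Ideal.mem_bot.1 (h₁.le (Ideal.Quotient.eq_zero_iff_mem.1 hx))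
  rw [h5]
  exact hπ (((hF C h₁' h₂ g).2).trans (hnat _ _ (π C) h₁ h₂ (hq C) (hu C h₂) g))

/-- Clopens descend from the locus modulo `J`. -/
theorem clopensDescend_open [IsLocalRing A] {U : (Spec (CommRingCat.of A)).Opens} (hU : DepthOutside U) {I : Ideal A}
    (hI : ∀ p : PrimeSpectrum A, p ∈ U ↔ ¬ I ≤ p.asIdeal) (hrad : I.IsRadical) {J : Ideal A} [IsAdicComplete J A]
    (T : Finset A) (hT : Ideal.span (T : Set A) = I) {x : A} (hx : Sat I A x) (hs : ProSurj T J) (hi : ProInj T J)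
    {A₀ : Type u} [CommRing A₀] (π : A →+* A₀) (hπs : Function.Surjective π) (hπ : RingHom.ker π = J) :
    ClopensDescend (pullback.fst U.ι (Spec.map (CommRingCat.ofHom π))) := by
  intro V W' hW'
  let ι := U.ι
  let q := Spec.map (CommRingCat.ofHom π)
  let j : pullback ι q ⟶ Spec (CommRingCat.of A) := pullback.fst ι q ≫ ι
  haveI : IsClosedImmersion q := IsClosedImmersion.spec_of_surjective _ hπs
  haveI : Mono j := inferInstance
  letI : Algebra A Γ(V.left, ⊤) := (sectionsMapOpen V).hom.toAlgebra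
  obtain ⟨hfin, xB, hxB⟩ := sections_finite_sat_open hU hI hrad V
  obtain ⟨hpb, het⟩ := sections_etale_away_open hU V
  haveI := hfin
  let P := pullback V.hom (pullback.fst ι q)
  let κ : P ⟶ Spec (CommRingCat.of Γ(V.left, ⊤)) := pullback.fst V.hom (pullback.fst ι q) ≫ V.left.toSpecΓ
  have hP : IsPullback κ (pullback.snd V.hom (pullback.fst ι q))
      (Spec.map (CommRingCat.ofHom (algebraMap A Γ(V.left, ⊤)))) j :=
    (IsPullback.of_hasPullback V.hom (pullback.fst ι q)).paste_horiz hpb.flip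
  obtain ⟨e', he', hW⟩ := Groth.Agent.H18Et.FEtRestrictGamma.exists_idempotent_of_isClopen (X := P) W' hW'
  have hz : ∀ (C : Type u) [CommRing C] [Algebra A C], J.map (algebraMap A C) = ⊥ →
      (∃ c ∈ T, IsUnit (algebraMap A C c)) → ∃ w, w ≫ j = Spec.map (CommRingCat.ofHom (algebraMap A C)) := by
    intro C _ _ hC ⟨c, hc, hu⟩
    let z := Spec.map (CommRingCat.ofHom (algebraMap A C))
    have hr : Set.range z ⊆ Set.range ι := by
      rintro _ ⟨p, rfl⟩
      rw [Scheme.Opens.range_ι]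
      exact mem_of_notMem hI (mem_of_mem hT hc) fun h => p.isPrime.ne_top (Ideal.eq_top_of_isUnit_mem _ h hu)
    let z₀ := Spec.map (CommRingCat.ofHom (π.liftOfSurjective hπs ⟨algebraMap A C, fun t ht => by
      rw [RingHom.mem_ker]
      exact Ideal.mem_bot.1 (hC.le (Ideal.mem_map_of_mem _ (hπ ▸ ht)))⟩))
    have hz₀ : z₀ ≫ q = z := by
      rw [← Spec.map_comp, ← CommRingCat.ofHom_comp, RingHom.liftOfRightInverse_comp]
    exact ⟨pullback.lift (IsOpenImmersion.lift ι z hr) z₀ (by rw [IsOpenImmersion.lift_fac, hz₀]),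
      by rw [pullback.lift_fst_assoc, IsOpenImmersion.lift_fac]⟩
  have hlift : ∀ (C : Type u) [CommRing C] [Algebra A C] (_ : J.map (algebraMap A C) = ⊥)
      (_ : ∃ c ∈ T, IsUnit (algebraMap A C c)) (g : Γ(V.left, ⊤) →ₐ[A] C),
      ∃! l : Spec (CommRingCat.of C) ⟶ P, l ≫ κ = Spec.map (CommRingCat.ofHom g.toRingHom) := by
    intro C _ _ h₁ h₂ g
    have hg := (pointsEquiv A Γ(V.left, ⊤) C g).2
    refine ⟨hP.lift _ (hz C h₁ h₂).choose (hg.trans (hz C h₁ h₂).choose_spec.symm), hP.lift_fst _ _ _, fun l hl => ?_⟩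
    refine hP.hom_ext (hl.trans (hP.lift_fst _ _ _).symm) ((cancel_mono j).1 ?_)
    rw [hP.lift_snd, (hz C h₁ h₂).choose_spec, Category.assoc, ← hP.w, ← Category.assoc, hl]
    exact hg
  choose L hL hLu using hlift
  beta_reduce at hL hLu
  let E : ∀ (C : Type u) [CommRing C] [Algebra A C], J.map (algebraMap A C) = ⊥ →
      (∃ c ∈ T, IsUnit (algebraMap A C c)) → (Γ(V.left, ⊤) →ₐ[A] C) → C := fun C _ _ h₁ h₂ g =>
    (Scheme.ΓSpecIso (CommRingCat.of C)).hom ((L C h₁ h₂ g).appTop e')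
  obtain ⟨a, ι', b, d, hinj, hex, hsplit⟩ :=
    exists_coords hT hx hxB fun c hc => exists_dualBasis_of_etale c (het c fun p hp => mem_of_notMem hI (mem_of_mem hT hc) hp)
  obtain ⟨e, he, hval⟩ := exists_idem_of_complete hs hi ⟨a, b, ι', d, hinj, hex, hsplit⟩ E
    (fun C _ _ h₁ h₂ g => by
      show _ = _
      rw [← map_mul, ← map_mul, he'])
    (fun C C' _ _ _ _ G h₁ h₂ h₁' h₂' g => by
      have key : L C' h₁' h₂' (G.comp g) = Spec.map (CommRingCat.ofHom G.toRingHom) ≫ L C h₁ h₂ g := by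
        refine (hLu C' h₁' h₂' _ _ ?_).symm
        rw [Category.assoc, hL, ← Spec.map_comp]
        rfl
      show (Scheme.ΓSpecIso (CommRingCat.of C')).hom ((L C' h₁' h₂' (G.comp g)).appTop e') =
        G ((Scheme.ΓSpecIso (CommRingCat.of C)).hom ((L C h₁ h₂ g).appTop e'))
      rw [key, Scheme.Hom.comp_appTop, ConcreteCategory.comp_apply]
      exact congr($(Scheme.ΓSpecIso_naturality (CommRingCat.ofHom G.toRingHom)) ((L C h₁ h₂ g).appTop e')))
  refine ⟨V.left.basicOpen (e : Γ(V.left, ⊤)), Groth.Agent.H18Et.FEtRestrictGamma.isClopen_basicOpen (X := V.left) e he,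
    Set.ext fun (z : P) => ?_⟩
  rw [← hW]
  let K := P.residueField z
  let l := P.fromSpecResidueField z
  let z₀ : Spec (CommRingCat.of K) ⟶ Spec (CommRingCat.of A) := l ≫ pullback.snd V.hom (pullback.fst ι q) ≫ j
  letI : Algebra A K := (Spec.preimage z₀).hom.toAlgebra
  have hzA : Spec.map (CommRingCat.ofHom (algebraMap A K)) = z₀ := Spec.map_preimage z₀
  have hKJ : J.map (algebraMap A K) = ⊥ := by
    rw [eq_bot_iff, Ideal.map_le_iff_le_comap]
    intro t ht
    rw [Ideal.mem_comap, Ideal.mem_bot]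
    have h : z₀ = (l ≫ pullback.snd V.hom (pullback.fst ι q) ≫ pullback.snd ι q) ≫ q := by
      simp only [z₀, j, Category.assoc, pullback.condition]
    rw [← hzA, ← Spec.map_preimage (l ≫ pullback.snd V.hom (pullback.fst ι q) ≫ pullback.snd ι q), ← Spec.map_comp] at h
    have h' := congr($(Spec.map_injective h) t)
    refine h'.trans ?_
    show (Spec.preimage (l ≫ pullback.snd V.hom (pullback.fst ι q) ≫ pullback.snd ι q)).hom (π t) = 0
    rw [show π t = 0 from RingHom.mem_ker.1 (hπ.symm ▸ ht), map_zero]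
  obtain ⟨c, hcT, hcu⟩ : ∃ c ∈ T, IsUnit (algebraMap A K c) := by
    by_contra! hcon
    let pt : Spec (CommRingCat.of K) := IsLocalRing.closedPoint K
    have hmem : z₀ pt ∈ U :=
      ((l ≫ pullback.snd V.hom (pullback.fst ι q) ≫ pullback.fst ι q) pt).2
    refine (hI _).1 hmem ?_
    rw [← hT, Ideal.span_le, ← hzA]
    intro c hc
    show algebraMap A K c ∈ IsLocalRing.maximalIdeal K
    exact hcon c hc
  let g : Γ(V.left, ⊤) →ₐ[A] K := (pointsEquiv A Γ(V.left, ⊤) K).symm ⟨l ≫ κ, by rw [hzA, Category.assoc, hP.w]⟩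
  have hl : l = L K hKJ ⟨c, hcT, hcu⟩ g := hLu K hKJ _ g l
    (congrArg Subtype.val ((pointsEquiv A Γ(V.left, ⊤) K).apply_symm_apply ⟨l ≫ κ, _⟩)).symm
  have hge : g e = (Scheme.ΓSpecIso (CommRingCat.of K)).hom (l.appTop e') := by
    rw [hl]; exact hval K hKJ ⟨c, hcT, hcu⟩ g
  have hκe : κ.appTop ((Scheme.ΓSpecIso Γ(V.left, ⊤)).inv e) = (pullback.fst V.hom (pullback.fst ι q)).appTop e := by
    show (pullback.fst V.hom (pullback.fst ι q) ≫ V.left.toSpecΓ).appTop _ = _
    rw [Scheme.Hom.comp_appTop, ConcreteCategory.comp_apply, Scheme.toSpecΓ_appTop,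
      ← ConcreteCategory.comp_apply (Scheme.ΓSpecIso Γ(V.left, ⊤)).inv, Iso.inv_hom_id]
    rfl
  have hge' : g e = (Scheme.ΓSpecIso (CommRingCat.of K)).hom (l.appTop ((pullback.fst V.hom (pullback.fst ι q)).appTop e)) := by
    rw [← hκe, ← ConcreteCategory.comp_apply κ.appTop, ← Scheme.Hom.comp_appTop]
    conv_rhs => rw [← Spec.map_preimage (l ≫ κ)]
    have h := Scheme.ΓSpecIso_naturality (Spec.preimage (l ≫ κ))
    erw [← ConcreteCategory.comp_apply (Spec.map (Spec.preimage (l ≫ κ))).appTop, h,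
      ConcreteCategory.comp_apply, ← ConcreteCategory.comp_apply (Scheme.ΓSpecIso Γ(V.left, ⊤)).inv, Iso.inv_hom_id]
    rfl
  have hpt : ∀ t : Γ(P, ⊤), z ∈ P.basicOpen t ↔ (Scheme.ΓSpecIso (CommRingCat.of K)).hom (l.appTop t) ≠ 0 := fun t => by
    have h1 : ∀ p, p ∈ l ⁻¹ᵁ P.basicOpen t ↔ z ∈ P.basicOpen t := fun p => by
      show l p ∈ P.basicOpen t ↔ _
      rw [Scheme.fromSpecResidueField_apply]
    rw [← h1 (IsLocalRing.closedPoint K), Scheme.Hom.preimage_basicOpen_top, AlgebraicGeometry.basicOpen_eq_of_affine']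
    show _ ∉ IsLocalRing.maximalIdeal K ↔ _
    rw [IsLocalRing.notMem_maximalIdeal, isUnit_iff_ne_zero]
    exact Iff.rfl
  show (pullback.fst V.hom (pullback.fst ι q)) z ∈ V.left.basicOpen e ↔ z ∈ P.basicOpen e'
  rw [hpt, ← hge, hge', ← hpt, ← Scheme.Hom.preimage_basicOpen_top]
  rfl

/-- Nonempty clopens meet the closed subset. -/
theorem meetsClopens_open [IsLocalRing A] {U : (Spec (CommRingCat.of A)).Opens} (hU : DepthOutside U) {I : Ideal A}
    (hI : ∀ p : PrimeSpectrum A, p ∈ U ↔ ¬ I ≤ p.asIdeal) {J : Ideal A} (hJ : J ≠ ⊤) (T : Finset A)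
    (hT : Ideal.span (T : Set A) = I) (hi : ProInj T J)
    {A₀ : Type u} [CommRing A₀] (π : A →+* A₀) (hπs : Function.Surjective π) (hπ : RingHom.ker π = J) :
    MeetsClopens (pullback.fst U.ι (Spec.map (CommRingCat.ofHom π))) := by
  intro W hW ⟨w, hw⟩
  -- the open is connected
  obtain ⟨e, he, heW⟩ := Groth.Agent.H18Et.FEtRestrictGamma.exists_idempotent_of_isClopen W hW
  haveI := isIso_sections_open hU
  let ρ := (Scheme.ΓSpecIso (CommRingCat.of A)).inv ≫ U.ι.appTop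
  obtain ⟨e₀, rfl⟩ := (ConcreteCategory.bijective_of_isIso ρ).2 e
  have he₀ : IsIdempotentElem e₀ := (ConcreteCategory.bijective_of_isIso ρ).1 (by rw [map_mul]; exact he)
  have h1 : e₀ = 1 := by
    rcases IsLocalRing.isUnit_or_isUnit_one_sub_self e₀ with h | h
    · exact IsIdempotentElem.iff_eq_one_of_isUnit h |>.mp he₀
    · exfalso
      have h0 : e₀ = 0 := h.mul_left_eq_zero.1 (by rw [mul_sub, mul_one, he₀.eq, sub_self])
      rw [h0, map_zero, Scheme.basicOpen_zero] at heW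
      exact heW.ge hw
  rw [h1, map_one, Scheme.basicOpen_of_isUnit _ isUnit_one] at heW
  have hWuniv : W = Set.univ := heW.symm
  rw [hWuniv, Set.univ_inter]
  by_contra hne
  obtain ⟨N, hN⟩ := hi 1
  have hrad : ∀ c, ∃ L : ℕ, c ∈ T → c ^ L ∈ J ^ N := fun c => by
    by_cases hc : c ∈ T
    · suffices c ∈ (J ^ N).radical from (Ideal.mem_radical_iff.1 this).imp fun L hL _ => hL
      rw [Ideal.radical_eq_sInf, Submodule.mem_sInf]
      rintro p ⟨hp, hpp⟩
      have hJp : J ≤ p := fun t ht => hpp.mem_of_pow_mem N (hp (Ideal.pow_mem_pow ht N))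
      by_contra hcp
      refine hne ?_
      rw [Scheme.Pullback.range_fst]
      exact ⟨⟨⟨p, hpp⟩, mem_of_notMem hI (mem_of_mem hT hc) hcp⟩,
        (range_comap_of_surjective (f := π) _ hπs).ge
          (show (RingHom.ker π : Set A) ⊆ p from hπ.le.trans hJp)⟩
    · exact ⟨0, fun h => absurd h hc⟩
  choose L hL using hrad
  have h01 : (1 : A) ∈ J ^ 1 := hN (T.sum L) 1 fun c hc => by
    rw [mul_one]
    obtain ⟨d, hd⟩ := Nat.exists_eq_add_of_le (Finset.single_le_sum (fun i _ => Nat.zero_le (L i)) hc)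
    rw [hd, pow_add]
    exact Ideal.mul_mem_right _ _ (hL c hc)
  rw [pow_one] at h01
  exact hJ ((Ideal.eq_top_iff_one _).2 h01)

end Groth.Agent.H18Pur.Formal
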