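import Mathlib
import Groth.Agent.H18Pur.Formal.Cech
import Groth.Agent.H18Pur.Pair.OpenGlue
import Groth.Agent.H02CA.PowerSeries

/-!
# Saturation over power series rings
-/

set_option autoImplicit false

universe u

namespace Groth.Agent.H18Pur.Formal

open Groth.Agent.H18Pur.Pair (Glues sat_of_flat)

section Transfer

variable {A B : Type u} [CommRing A] [CommRing B] [Algebra A B] {I : Ideal A} {M : Type u} [AddCommGroup M]
  [Module A M] [Module B M] [IsScalarTower A B M] {x : A}

theorem Sat.map_algebraMap (h : Sat I M x) : Sat (I.map (algebraMap A B)) M (algebraMap A B x) where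
  mem := Ideal.mem_map_of_mem _ h.mem
  reg := fun a b hab => h.reg (by
    show x • a = x • b
    have h' : algebraMap A B x • a = algebraMap A B x • b := hab
    rwa [algebraMap_smul, algebraMap_smul] at h')
  sat K z hz := by
    obtain ⟨w, hw⟩ := h.sat K z fun y hy => by
      obtain ⟨w, hw⟩ := hz (algebraMap A B y) (Ideal.map_pow (algebraMap A B) I K ▸ Ideal.mem_map_of_mem _ hy)
      exact ⟨w, by rwa [algebraMap_smul, algebraMap_smul] at hw⟩
    exact ⟨w, by rw [algebraMap_smul, hw]⟩

theorem sat_of_map (hx : x ∈ I) (h : Sat (I.map (algebraMap A B)) M (algebraMap A B x)) : Sat I M x where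
  mem := hx
  reg := fun a b hab => h.reg (by
    show algebraMap A B x • a = algebraMap A B x • b
    rw [algebraMap_smul, algebraMap_smul]; exact hab)
  sat K z hz := by
    obtain ⟨w, hw⟩ := h.sat K z fun y hy => by
      rw [← Ideal.map_pow] at hy
      induction hy using Submodule.span_induction with
      | mem y hy =>
        obtain ⟨a, ha, rfl⟩ := hy
        obtain ⟨w, hw⟩ := hz a ha
        exact ⟨w, by rw [algebraMap_smul, algebraMap_smul, hw]⟩
      | zero => exact ⟨0, by simp⟩
      | add a b _ _ ha hb =>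
        obtain ⟨u, hu⟩ := ha
        obtain ⟨v, hv⟩ := hb
        exact ⟨u + v, by rw [add_smul, hu, hv, smul_add]⟩
      | smul t a _ ha =>
        obtain ⟨u, hu⟩ := ha
        exact ⟨t • u, by rw [smul_eq_mul t, mul_smul, hu, smul_comm]⟩
    exact ⟨w, by rw [hw, algebraMap_smul]⟩

end Transfer

section Glue

variable {A : Type u} [CommRing A] {I : Ideal A}

/-- Saturation can be checked on the cover for modules whose sections glue. -/
theorem sat_of_glues {T : Finset A} {M : Type u} [AddCommGroup M] [Module A M] (hM : Glues T M) {x : A}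
    (hx : x ∈ I) (hreg : IsSMulRegular M x)
    (h : ∀ c ∈ T, ∀ (K : ℕ) (z : M), (∀ y ∈ I ^ K, ∃ w, y • z = x • w) → ∃ (L : ℕ) (w : M), c ^ L • z = x • w) :
    Sat I M x where
  mem := hx
  reg := hreg
  sat K z hz := by
    classical
    have : ∀ c, ∃ (L : ℕ) (w : M), c ∈ T → c ^ L • z = x • w := fun c => by
      by_cases hc : c ∈ T
      · obtain ⟨L, w, hw⟩ := h c hc K z hz
        exact ⟨L, w, fun _ => hw⟩
      · exact ⟨0, 0, fun h => absurd h hc⟩
    choose L w hw using this
    let P := T.sum L
    let v : A → M := fun c => c ^ (P - L c) • w c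
    have hv : ∀ c ∈ T, x • v c = c ^ P • z := fun c hc => by
      rw [smul_comm, ← hw c hc, smul_smul, ← pow_add,
        Nat.sub_add_cancel (Finset.single_le_sum (fun i _ => Nat.zero_le (L i)) hc)]
    obtain ⟨a, ha⟩ := hM.exists_glue P v fun c hc d hd => hreg (by
      show x • (d ^ P • v c) = x • (c ^ P • v d)
      rw [smul_comm, hv c hc, smul_comm x, hv d hd, smul_comm])
    exact ⟨a, sub_eq_zero.1 (hM.eq_zero P _ fun c hc => by rw [smul_sub, smul_comm _ x, ha c hc, hv c hc, sub_self])⟩

/-- An algebra, flat on the cover, whose sections glue is saturated wherever the base is. -/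
theorem sat_of_glues_away {T T' : Finset A} (hT' : Ideal.span (T' : Set A) = I) {R : Type u} [CommRing R]
    [Algebra A R] (hR : Glues T R) {x : A} (hA : Sat I A x)
    (hflat : ∀ c ∈ T, Module.Flat A (Localization.Away (algebraMap A R c))) : Sat I R x := by
  classical
  have key : ∀ c ∈ T, Sat I (Localization.Away (algebraMap A R c)) x := fun c hc =>
    haveI := hflat c hc
    sat_of_flat hT' hA _
  have hcomm : ∀ (c a : A) (r : R), algebraMap R (Localization.Away (algebraMap A R c)) (a • r) =
      a • algebraMap R (Localization.Away (algebraMap A R c)) r := fun c a r =>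
    map_smul (IsScalarTower.toAlgHom A R (Localization.Away (algebraMap A R c))) a r
  have lift : ∀ (c : A) (u v : R), algebraMap R (Localization.Away (algebraMap A R c)) u =
      algebraMap R _ v → ∃ k : ℕ, c ^ k • u = c ^ k • v := fun c u v h => by
    obtain ⟨⟨_, k, rfl⟩, hk⟩ := (IsLocalization.eq_iff_exists (Submonoid.powers (algebraMap A R c)) _).1 h
    exact ⟨k, by simpa [Algebra.smul_def, ← map_pow] using hk⟩
  refine sat_of_glues hR hA.mem (fun a b hab => ?_) fun c hc K z hz => ?_
  · refine sub_eq_zero.1 ?_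
    have : ∀ c, ∃ k : ℕ, c ∈ T → c ^ k • (a - b) = 0 := fun c => by
      by_cases hc : c ∈ T
      · have h2 := congrArg (algebraMap R (Localization.Away (algebraMap A R c))) (show x • a = x • b from hab)
        rw [hcomm, hcomm] at h2
        obtain ⟨k, hk⟩ := lift c _ _ ((key c hc).reg h2)
        exact ⟨k, fun _ => by rw [smul_sub, hk, sub_self]⟩
      · exact ⟨0, fun h => absurd h hc⟩
    choose k hk using this
    refine hR.eq_zero (T.sum k) _ fun c hc => ?_
    obtain ⟨e, he⟩ := Nat.exists_eq_add_of_le (Finset.single_le_sum (fun i _ => Nat.zero_le (k i)) hc)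
    rw [he, add_comm, pow_add, mul_smul, hk c hc, smul_zero]
  · let φ := algebraMap R (Localization.Away (algebraMap A R c))
    obtain ⟨w, hw⟩ := (key c hc).sat K (φ z) fun y hy => by
      obtain ⟨w, hw⟩ := hz y hy
      exact ⟨φ w, by rw [← hcomm, ← hcomm, hw]⟩
    obtain ⟨L, r, hr⟩ := IsLocalization.Away.surj (algebraMap A R c) w
    have h3 : φ (c ^ L • z) = φ (x • r) := by
      rw [hcomm, hcomm, hw, smul_comm]
      congr 1
      rw [Algebra.smul_def, IsScalarTower.algebraMap_apply A R (Localization.Away (algebraMap A R c)), map_pow, map_pow,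
        mul_comm]
      exact hr
    obtain ⟨k, hk⟩ := lift c _ _ h3
    exact ⟨k + L, c ^ k • r, by rw [pow_add, mul_smul, hk, smul_comm]⟩

end Glue

/-- Truncations of power series inherit saturation. -/
theorem sat_quot_vars {A : Type u} [CommRing A] {I : Ideal A} {x : A} (h : Sat I A x) (σ : Type) [Finite σ] (n : ℕ) :
    Sat I (MvPowerSeries σ A ⧸ H02CA.PS.vars σ A ^ n) x := by
  classical
  have hmem : ∀ f : MvPowerSeries σ A, Ideal.Quotient.mk (H02CA.PS.vars σ A ^ n) f = 0 ↔
      ∀ e, Finsupp.degree e < n → MvPowerSeries.coeff e f = 0 := fun f =>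
    Ideal.Quotient.eq_zero_iff_mem.trans
      ⟨fun hf e he => H02CA.PS.coeff_eq_zero_of_mem_pow hf he, H02CA.PS.mem_pow_of_coeff⟩
  have hsmul : ∀ (a : A) (f : MvPowerSeries σ A),
      a • Ideal.Quotient.mk (H02CA.PS.vars σ A ^ n) f = Ideal.Quotient.mk _ (a • f) := fun a f => rfl
  refine sat_of_sat_one h.mem (fun p q hpq => ?_) fun z hz => ?_
  · obtain ⟨p, rfl⟩ := Ideal.Quotient.mk_surjective p
    obtain ⟨q, rfl⟩ := Ideal.Quotient.mk_surjective q
    refine sub_eq_zero.1 ?_
    rw [← map_sub, hmem]
    intro e he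
    have h1 : Ideal.Quotient.mk (H02CA.PS.vars σ A ^ n) (x • (p - q)) = 0 := by
      rw [← hsmul, map_sub, smul_sub]
      exact sub_eq_zero.2 hpq
    have h2 := (hmem _).1 h1 e he
    rw [MvPowerSeries.coeff_smul] at h2
    refine h.reg (show x • MvPowerSeries.coeff e (p - q) = x • (0 : A) from ?_)
    rw [smul_zero, smul_eq_mul]
    exact h2
  · obtain ⟨z, rfl⟩ := Ideal.Quotient.mk_surjective z
    have : ∀ e, ∃ w : A, Finsupp.degree e < n → MvPowerSeries.coeff e z = x • w := fun e => by
      by_cases he : Finsupp.degree e < n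
      · obtain ⟨w, hw⟩ := h.sat 1 (MvPowerSeries.coeff e z) fun y hy => by
          obtain ⟨w, hw⟩ := hz y (by rwa [pow_one] at hy)
          obtain ⟨w, rfl⟩ := Ideal.Quotient.mk_surjective w
          refine ⟨MvPowerSeries.coeff e w, ?_⟩
          have h1 : Ideal.Quotient.mk (H02CA.PS.vars σ A ^ n) (y • z - x • w) = 0 := by
            rw [map_sub, ← hsmul, ← hsmul, hw, sub_self]
          have h2 := (hmem _).1 h1 e he
          rwa [map_sub, MvPowerSeries.coeff_smul, MvPowerSeries.coeff_smul, sub_eq_zero] at h2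
        exact ⟨w, fun _ => hw⟩
      · exact ⟨0, fun h => absurd h he⟩
    choose w hw using this
    refine ⟨Ideal.Quotient.mk _ (show MvPowerSeries σ A from w), ?_⟩
    rw [hsmul, ← sub_eq_zero, ← map_sub, hmem]
    intro e he
    rw [map_sub, MvPowerSeries.coeff_smul, hw e he, sub_eq_zero, smul_eq_mul]
    rfl

end Groth.Agent.H18Pur.Formal
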