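import Mathlib
import Groth.Prelude.Def_FEt
import Groth.Agent.H18Pur.PS.AlgEquiv
import Groth.Agent.H18Pur.PS.Sat
import Groth.Agent.H18Pur.Formal.Extend
import Groth.Agent.H18Pur.Formal.Depth
import Groth.Agent.H18Pur.Saturated
import Groth.Agent.H02CA.PowerSeries

/-!
# Purity for power series over a local ring of depth two
-/

set_option autoImplicit false
set_option backward.isDefEq.respectTransparency false

universe u

open CategoryTheory CategoryTheory.Limits AlgebraicGeometry TensorProduct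

namespace Groth.Agent.H18Pur.Formal

open Groth.Agent.H18Pur.Pair (Glues sat_of_flat glues_of_sat)

/-- Power series over a Noetherian ring are flat. -/
theorem flat_powerSeries (A : Type u) [CommRing A] [IsNoetherianRing A] (d : ℕ) :
    Module.Flat A (MvPowerSeries (Fin d) A) := by
  haveI : IsNoetherianRing (MvPolynomial (Fin d) A) := inferInstance
  haveI : Module.Flat (MvPolynomial (Fin d) A)
      (AdicCompletion (MvPolynomial.idealOfVars (Fin d) A) (MvPolynomial (Fin d) A)) :=
    AdicCompletion.flat_of_isNoetherian _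
  haveI : Module.Flat (MvPolynomial (Fin d) A) (MvPowerSeries (Fin d) A) :=
    Module.Flat.of_linearEquiv (MvPowerSeries.toAdicCompletionAlgEquiv (Fin d) A).toLinearEquiv
  haveI : IsScalarTower A (MvPolynomial (Fin d) A) (MvPowerSeries (Fin d) A) :=
    IsScalarTower.of_algebraMap_eq fun s => by
      rw [← MvPowerSeries.c_eq_algebraMap]
      exact (MvPolynomial.coe_C s).symm
  exact Module.Flat.trans A (MvPolynomial (Fin d) A) (MvPowerSeries (Fin d) A)

/-- The punctured spectrum of a local quotient. -/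
theorem exists_isPullback_punctured_of_surjective {B A : Type u} [CommRing B] [IsLocalRing B] [CommRing A] [IsLocalRing A]
    (f : B →+* A) (hf : Function.Surjective f) :
    ∃ k : (FEt.puncturedSpec A : Scheme.{u}) ⟶ (FEt.puncturedSpec B : Scheme.{u}),
      IsPullback k (FEt.puncturedSpec A).ι (FEt.puncturedSpec B).ι (Spec.map (CommRingCat.ofHom f)) := by
  let q := Spec.map (CommRingCat.ofHom f)
  have hq : ∀ p : Spec (CommRingCat.of A), q p = IsLocalRing.closedPoint B ↔ p = IsLocalRing.closedPoint A := by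
    intro p
    refine ⟨fun h => ?_, fun h => ?_⟩
    · have h' : p.asIdeal.comap f = IsLocalRing.maximalIdeal B := congrArg PrimeSpectrum.asIdeal h
      refine PrimeSpectrum.ext ?_
      rw [← Ideal.map_comap_of_surjective _ hf p.asIdeal, h', IsLocalRing.map_maximalIdeal_of_surjective _ hf]
      rfl
    · subst h
      haveI : IsLocalHom f := .of_surjective _ hf
      exact IsLocalRing.comap_closedPoint f
  have hpre : q ⁻¹ᵁ (FEt.puncturedSpec B).ι.opensRange = (FEt.puncturedSpec A).ι.opensRange := by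
    rw [Scheme.Opens.opensRange_ι, Scheme.Opens.opensRange_ι]
    exact TopologicalSpace.Opens.ext (Set.ext fun p => not_congr (hq p))
  have hr : Set.range ((FEt.puncturedSpec A).ι ≫ q) ⊆ Set.range (FEt.puncturedSpec B).ι := by
    rintro _ ⟨p, rfl⟩
    rw [Scheme.Opens.range_ι]
    exact fun h => p.2 ((hq _).1 h)
  refine ⟨IsOpenImmersion.lift _ _ hr, IsOpenImmersion.isPullback _ _ _ q
    (IsOpenImmersion.lift_fac _ _ hr).symm hpre⟩

/-- The fibre of a base change over a section. -/
theorem exists_isPullback_section (A B S₀ : Type u) [CommRing A] [CommRing B] [CommRing S₀] [Algebra A B] [Algebra A S₀]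
    (π : B →ₐ[A] A) :
    ∃ s₀ : Spec (CommRingCat.of S₀) ⟶ Spec (CommRingCat.of (B ⊗[A] S₀)),
      IsPullback s₀ (Spec.map (CommRingCat.ofHom (algebraMap A S₀)))
        (Spec.map (CommRingCat.ofHom (algebraMap B (B ⊗[A] S₀)))) (Spec.map (CommRingCat.ofHom π.toRingHom)) := by
  let g : B ⊗[A] S₀ →ₐ[A] S₀ :=
    Algebra.TensorProduct.lift ((Algebra.ofId A S₀).comp π) (AlgHom.id A S₀) fun _ _ => Commute.all _ _
  refine ⟨Spec.map (CommRingCat.ofHom g.toRingHom), ?_⟩
  have t := (isPullback_SpecMap_of_isPushout _ _ _ _ (CommRingCat.isPushout_tensorProduct A B S₀)).flip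
  refine IsPullback.of_right ?_ ?_ t
  · have h1 : CommRingCat.ofHom (Algebra.TensorProduct.includeRight (R := A) (A := B) (B := S₀)).toRingHom ≫
        CommRingCat.ofHom g.toRingHom = 𝟙 (CommRingCat.of S₀) :=
      CommRingCat.hom_ext (RingHom.ext fun s => by simp [g])
    have h2 : CommRingCat.ofHom (algebraMap A B) ≫ CommRingCat.ofHom π.toRingHom = 𝟙 (CommRingCat.of A) :=
      CommRingCat.hom_ext (RingHom.ext fun a => π.commutes a)
    rw [← Spec.map_comp, ← Spec.map_comp, h1, h2, Spec.map_id, Spec.map_id]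
    exact IsPullback.of_id_fst
  · rw [← Spec.map_comp, ← Spec.map_comp]
    congr 1
    exact CommRingCat.hom_ext (RingHom.ext fun b => by simp [g])

/-- Étaleness off the closed fibre is kept by base change. -/
theorem etale_away_baseChange {A B S₀ : Type u} [CommRing A] [CommRing B] [CommRing S₀] [Algebra A B] [Algebra A S₀]
    (c : A) (h : Algebra.Etale A (Localization.Away (algebraMap A S₀ c))) :
    Algebra.Etale B (Localization.Away (algebraMap B (B ⊗[A] S₀) (algebraMap A B c))) := by
  haveI := h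
  have e : algebraMap B (B ⊗[A] S₀) (algebraMap A B c) = (1 : B) ⊗ₜ[A] algebraMap A S₀ c := by
    rw [← IsScalarTower.algebraMap_apply]
    exact ((Algebra.TensorProduct.includeRight (R := A) (A := B) (B := S₀)).commutes c).symm
  rw [e]
  exact Algebra.Etale.of_equiv (IsLocalization.Away.tensorProductEquivTMulRight A B (algebraMap A S₀ c)
    (Localization.Away (algebraMap A S₀ c)))

theorem purityHolds_powerSeries (A : Type u) [CommRing A] [IsNoetherianRing A] [IsLocalRing A]
    (hA : (2 : ℕ∞) ≤ LocCoh.depth A A) (d : ℕ) (hd : 1 ≤ d) : FEt.PurityHolds (MvPowerSeries (Fin d) A) := by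
  classical
  refine ⟨fun V => ?_⟩
  let B := MvPowerSeries (Fin d) A
  let cc : B →+* A := MvPowerSeries.constantCoeff
  haveI : Module.Flat A B := flat_powerSeries A d
  have hccA : ∀ a, cc (algebraMap A B a) = a := fun a => by
    rw [← MvPowerSeries.c_eq_algebraMap]; exact MvPowerSeries.constantCoeff_C a
  let π : B →ₐ[A] A := { cc with commutes' := hccA }
  have hccs : Function.Surjective cc := fun a => ⟨algebraMap A B a, hccA a⟩
  haveI : IsLocalHom cc := .of_surjective _ hccs
  obtain ⟨T, hT⟩ := (IsNoetherian.noetherian (IsLocalRing.maximalIdeal A) : (IsLocalRing.maximalIdeal A).FG)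
  obtain ⟨x, hx⟩ := exists_sat_of_two_le_depth hA
  -- the base
  let m := IsLocalRing.maximalIdeal A
  let I : Ideal B := m.map (algebraMap A B)
  let TI : Finset B := T.image (algebraMap A B)
  have hTI : Ideal.span (TI : Set B) = I := by
    rw [Finset.coe_image, ← Ideal.map_span]; exact congrArg _ hT
  have hxI : Sat I B (algebraMap A B x) := (sat_of_flat hT hx B).map_algebraMap
  have hIle : I ≤ IsLocalRing.maximalIdeal B := Ideal.map_le_iff_le_comap.2 fun a ha => by
    rw [Ideal.mem_comap, IsLocalRing.mem_maximalIdeal, mem_nonunits_iff]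
    exact fun hu => (IsLocalRing.mem_maximalIdeal _).1 ha (hccA a ▸ hu.map cc)
  have hB2 : (2 : ℕ∞) ≤ LocCoh.depth B B :=
    Groth.Agent.H18Pur.Saturated.two_le_depth_of_sat (hIle hxI.mem) hxI.reg fun z hz => by
      obtain ⟨w, hw⟩ := hxI.sat 1 z fun y hy => hz y (hIle (by rwa [pow_one] at hy))
      exact ⟨w, hw⟩
  -- the sections
  letI : Algebra B Γ(V.left, ⊤) := (sectionsMap V).hom.toAlgebra
  obtain ⟨hfinR, xR, hxR⟩ := sections_finite_sat hB2 V
  obtain ⟨hpb, hetR⟩ := sections_etale_away hB2 V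
  haveI := hfinR
  obtain ⟨TB, hTB⟩ := (IsNoetherian.noetherian (IsLocalRing.maximalIdeal B) : (IsLocalRing.maximalIdeal B).FG)
  have hTIm : ∀ c ∈ TI, c ∈ IsLocalRing.maximalIdeal B := fun c hc => hIle (mem_of_mem hTI hc)
  have hRI : Sat I Γ(V.left, ⊤) (algebraMap A B x) :=
    sat_of_glues_away hTI (glues_of_sat hTB hxR) hxI fun c hc =>
      haveI := hetR c (mem_of_mem hTB hc)
      inferInstance
  -- the restriction to `x = 0` and its sections
  obtain ⟨k, hk⟩ := exists_isPullback_punctured_of_surjective cc hccs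
  let V₀ : FEt.Cat (FEt.puncturedSpec A : Scheme.{u}) := (FEt.restrict k).obj V
  letI : Algebra A Γ(V₀.left, ⊤) := (sectionsMap V₀).hom.toAlgebra
  obtain ⟨hfin₀, x₀, hx₀⟩ := sections_finite_sat hA V₀
  obtain ⟨hpb₀, het₀⟩ := sections_etale_away hA V₀
  haveI := hfin₀
  let S := B ⊗[A] Γ(V₀.left, ⊤)
  have hSI : Sat I S (algebraMap A B x₀) := by
    letI : Algebra Γ(V₀.left, ⊤) S := Algebra.TensorProduct.rightAlgebra
    haveI : Module.Flat Γ(V₀.left, ⊤) S :=
      Module.Flat.of_linearEquiv (Algebra.TensorProduct.commRight A Γ(V₀.left, ⊤) B).symm.toLinearEquiv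
    haveI : IsScalarTower A Γ(V₀.left, ⊤) S := IsScalarTower.of_algebraMap_eq fun a =>
      ((Algebra.TensorProduct.includeRight (R := A) (A := B) (B := Γ(V₀.left, ⊤))).commutes a).symm
    have h0 : Sat (m.map (algebraMap A Γ(V₀.left, ⊤))) Γ(V₀.left, ⊤) (algebraMap A Γ(V₀.left, ⊤) x₀) :=
      hx₀.map_algebraMap
    have hT0 : Ideal.span ((T.image (algebraMap A Γ(V₀.left, ⊤)) : Finset _) : Set Γ(V₀.left, ⊤)) =
        m.map (algebraMap A Γ(V₀.left, ⊤)) := by rw [Finset.coe_image, ← Ideal.map_span]; exact congrArg _ hT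
    exact (sat_of_map (A := A) (M := S) hx₀.mem (sat_of_flat hT0 h0 S)).map_algebraMap
  have hetS : ∀ c ∈ TI, Algebra.Etale B (Localization.Away (algebraMap B S c)) := fun c hc => by
    obtain ⟨a, ha, rfl⟩ := Finset.mem_image.1 hc
    exact etale_away_baseChange a (het₀ a (mem_of_mem hT ha))
  -- formal gluing
  let J : Ideal B := H02CA.PS.vars (Fin d) A
  obtain ⟨hs, hi⟩ := pro_of_sat_quotient hTI J fun n => ⟨_, (sat_quot_vars hx (Fin d) n).map_algebraMap⟩
  obtain ⟨aR, ιR, bR, dR, hinjR, hexR, hsplitR⟩ := exists_coords hTI hxI hRI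
    fun c hc => exists_dualBasis_of_etale c (hetR c (hTIm c hc))
  obtain ⟨aS, ιS, bS, dS, hinjS, hexS, hsplitS⟩ := exists_coords hTI hxI hSI
    fun c hc => exists_dualBasis_of_etale c (hetS c hc)
  -- the points modulo `J`
  obtain ⟨s₀, hS⟩ := exists_isPullback_section A B Γ(V₀.left, ⊤) π
  let q := Spec.map (CommRingCat.ofHom cc)
  let j : (FEt.puncturedSpec A : Scheme.{u}) ⟶ Spec (CommRingCat.of B) := (FEt.puncturedSpec A).ι ≫ q
  haveI : IsClosedImmersion q := IsClosedImmersion.spec_of_surjective _ hccs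
  haveI : Mono j := inferInstance
  have hP := (IsPullback.of_hasPullback V.hom k).paste_horiz hpb.flip
  have hkw : k ≫ (FEt.puncturedSpec B).ι = j := hk.w
  rw [hkw] at hP
  have hP' := hpb₀.flip.paste_horiz hS
  obtain ⟨ε₀, hε₀⟩ := exists_points_equiv hP hP'
  have hz : ∀ (C : Type u) [CommRing C] [Algebra B C], J.map (algebraMap B C) = ⊥ →
      (∃ c ∈ TI, IsUnit (algebraMap B C c)) → ∃ w, w ≫ j = Spec.map (CommRingCat.ofHom (algebraMap B C)) := by
    intro C _ _ hC ⟨c, hc, hu⟩
    obtain ⟨a, ha, rfl⟩ := Finset.mem_image.1 hc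
    let g : A →+* C := (algebraMap B C).comp (algebraMap A B)
    have hg : g.comp cc = algebraMap B C := RingHom.ext fun b => by
      have h1 : b - algebraMap A B (cc b) ∈ J := by
        show _ ∈ H02CA.PS.vars (Fin d) A
        rw [H02CA.PS.mem_vars_iff, map_sub]
        exact sub_eq_zero.2 (hccA _).symm
      have h2 := Ideal.mem_bot.1 (hC.le (Ideal.mem_map_of_mem (algebraMap B C) h1))
      rw [map_sub, sub_eq_zero] at h2
      exact h2.symm
    have hr : Set.range (Spec.map (CommRingCat.ofHom g)) ⊆ Set.range (FEt.puncturedSpec A).ι := by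
      rintro _ ⟨p, rfl⟩
      rw [Scheme.Opens.range_ι]
      exact mem_punctured A (mem_of_mem hT ha) fun h => p.isPrime.ne_top (Ideal.eq_top_of_isUnit_mem _ h hu)
    refine ⟨IsOpenImmersion.lift (FEt.puncturedSpec A).ι (Spec.map (CommRingCat.ofHom g)) hr, ?_⟩
    rw [IsOpenImmersion.lift_fac_assoc, ← Spec.map_comp, ← CommRingCat.ofHom_comp, hg]
  let ε : ∀ (C : Type u) [CommRing C] [Algebra B C], J.map (algebraMap B C) = ⊥ →
      (∃ c ∈ TI, IsUnit (algebraMap B C c)) → (Γ(V.left, ⊤) →ₐ[B] C) ≃ (S →ₐ[B] C) := fun C _ _ h₁ h₂ =>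
    (pointsEquiv B Γ(V.left, ⊤) C).trans ((ε₀ _ _ (hz C h₁ h₂)).trans (pointsEquiv B S C).symm)
  obtain ⟨Θ, Ψ, hinv⟩ := exists_ptMaps_of_away (T := TI) (fun c hc => hetR c (hTIm c hc)) hetS ε
    (fun C C' _ _ _ _ G h₁ h₂ h₁' h₂' g => by
      refine (pointsEquiv B S C').injective (Subtype.ext ?_)
      simp only [ε, Equiv.trans_apply, Equiv.apply_symm_apply]
      let k' := Spec.map (CommRingCat.ofHom G.toRingHom)
      have hk' : k' ≫ Spec.map (CommRingCat.ofHom (algebraMap B C)) = Spec.map (CommRingCat.ofHom (algebraMap B C')) := by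
        rw [← Spec.map_comp, ← CommRingCat.ofHom_comp]
        exact congrArg (fun r => Spec.map (CommRingCat.ofHom r)) G.comp_algebraMap
      have hG : ∀ {R : Type u} [CommRing R] [Algebra B R] (f : R →ₐ[B] C),
          ((pointsEquiv B R C') (G.comp f)).1 = k' ≫ ((pointsEquiv B R C) f).1 := fun f => by
        show Spec.map _ = Spec.map _ ≫ Spec.map _
        rw [← Spec.map_comp]
        rfl
      rw [hG]
      erw [Equiv.apply_symm_apply, Equiv.apply_symm_apply]
      exact hε₀ _ _ k' _ _ hk' (hz C h₁ h₂) (hz C' h₁' h₂') _ _ (hG g))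
  obtain ⟨e⟩ := nonempty_algEquiv_of_ptMaps hs hi ⟨aR, bR, ιR, dR, hinjR, hexR, hsplitR⟩
    ⟨aS, bS, ιS, dS, hinjS, hexS, hsplitS⟩ Θ Ψ hinv
  -- the fibre is étale by descent from `x₁ ≠ 0`
  let b₀ : B := MvPowerSeries.X (⟨0, hd⟩ : Fin d)
  have hb₀ : b₀ ∈ IsLocalRing.maximalIdeal B := by
    rw [IsLocalRing.mem_maximalIdeal, mem_nonunits_iff]
    intro hu
    have := hu.map cc
    rw [show cc b₀ = 0 from MvPowerSeries.constantCoeff_X _] at this
    exact not_isUnit_zero this
  have hb₀I : ∀ n, b₀ ^ n ∉ I := fun n hn => by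
    have hle : I ≤ Ideal.comap (MvPowerSeries.map (IsLocalRing.residue A) (σ := Fin d)) ⊥ :=
      Ideal.map_le_iff_le_comap.2 fun a ha => by
        rw [Ideal.mem_comap, Ideal.mem_comap, Ideal.mem_bot, ← MvPowerSeries.c_eq_algebraMap, MvPowerSeries.map_C,
          (IsLocalRing.residue_eq_zero_iff a).2 ha, map_zero]
    have h := hle hn
    rw [Ideal.mem_comap, Ideal.mem_bot, map_pow, MvPowerSeries.map_X, MvPowerSeries.X_pow_eq] at h
    simpa [MvPowerSeries.coeff_monomial] using congrArg (MvPowerSeries.coeff (Finsupp.single (⟨0, hd⟩ : Fin d) n)) h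
  let B' := Localization.Away b₀
  haveI : Module.Flat B B' := IsLocalization.flat B' (Submonoid.powers b₀)
  haveI : Module.Flat A B' := Module.Flat.trans A B B'
  haveI : Module.FaithfullyFlat A B' := by
    refine @Module.FaithfullyFlat.mk A B' _ _ _ _ (fun m' hm' htop => ?_)
    obtain rfl := IsLocalRing.eq_maximalIdeal hm'
    rw [Ideal.smul_top_eq_map, Submodule.restrictScalars_eq_top_iff,
      IsScalarTower.algebraMap_eq A B B', ← Ideal.map_map] at htop
    refine (IsLocalization.map_algebraMap_ne_top_iff_disjoint (Submonoid.powers b₀) B' I).2 ?_ htop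
    rw [Set.disjoint_left]
    rintro _ ⟨n, rfl⟩ hn
    exact hb₀I n hn
  haveI hetS' : Algebra.Etale B (Localization.Away (algebraMap B S b₀)) := by
    haveI := hetR b₀ hb₀
    exact Algebra.Etale.of_equiv (IsLocalization.algEquivOfAlgEquiv (A := B)
      (M := Submonoid.powers (algebraMap B Γ(V.left, ⊤) b₀)) (T := Submonoid.powers (algebraMap B S b₀))
      (Localization.Away (algebraMap B Γ(V.left, ⊤) b₀)) (Localization.Away (algebraMap B S b₀)) e.symm (by
        rw [Submonoid.map_powers]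
        exact congrArg Submonoid.powers (e.symm.commutes b₀)))
  haveI : Algebra.Etale B (B' ⊗[B] S) := Algebra.Etale.of_equiv
    (((IsLocalization.algEquiv (Submonoid.powers (algebraMap B S b₀)) (Localization.Away (algebraMap B S b₀))
      (S ⊗[B] B')).restrictScalars B).trans (Algebra.TensorProduct.comm B S B'))
  haveI : Algebra.Etale B B' := Algebra.Etale.of_isLocalizationAway b₀
  haveI : Algebra.Etale B' (B' ⊗[B] S) := Algebra.Etale.of_restrictScalars B B' _
  have het' : Algebra.Etale B' (B' ⊗[A] Γ(V₀.left, ⊤)) :=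
    Algebra.Etale.of_equiv (Algebra.TensorProduct.cancelBaseChange A B B' B' Γ(V₀.left, ⊤))
  haveI : Algebra.Etale A Γ(V₀.left, ⊤) := RingHom.etale_algebraMap.1
    (RingHom.CodescendsAlong.algebraMap_tensorProduct _ A B' Γ(V₀.left, ⊤)
      RingHom.Etale.codescendsAlong_faithfullyFlat (RingHom.faithfullyFlat_algebraMap_iff.2 inferInstance)
      (RingHom.etale_algebraMap.2 het'))
  haveI : Algebra.Etale B Γ(V.left, ⊤) := Algebra.Etale.of_equiv e
  obtain ⟨Y, hY⟩ := Groth.Agent.H18Pur.exists_extension_of_etale_sections B hB2 V (RingHom.finite_algebraMap.2 hfinR)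
    (RingHom.etale_algebraMap.2 ‹Algebra.Etale B Γ(V.left, ⊤)›)
  exact ⟨Y, hY⟩

end Groth.Agent.H18Pur.Formal
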