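import Mathlib
import Groth.Prelude.Def_FEt
import Groth.Agent.H18Pur.PS.Main
import Groth.Agent.H18Pur.PS.Descend
import Groth.Agent.H18Pur.Pair.Affine
import Groth.Agent.H29Slice.SmoothSection
import Groth.Agent.H4Depth.LocDepth

/-!
# Restriction from an open of `Spec A⟦x⟧` to `x = 0` is fully faithful
-/

set_option autoImplicit false
set_option backward.isDefEq.respectTransparency false

universe u

open CategoryTheory CategoryTheory.Limits AlgebraicGeometry RingTheory.Sequence

namespace Groth.Agent.H18Pur.Formal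

open Groth.Agent.H18Pur.Pair (sat_of_flat)

/-- Depth two at the primes meeting `x = 0` only in the closed point. -/
theorem two_le_depth_of_sup_vars (A : Type u) [CommRing A] [IsNoetherianRing A] [IsLocalRing A]
    (hA : (2 : ℕ∞) ≤ LocCoh.depth A A) (d : ℕ) (q : Ideal (MvPowerSeries (Fin d) A)) [q.IsPrime]
    (hq : IsLocalRing.maximalIdeal (MvPowerSeries (Fin d) A) ≤ (q ⊔ H02CA.PS.vars (Fin d) A).radical) :
    (2 : ℕ∞) ≤ LocCoh.depth (Localization.AtPrime q) (Localization.AtPrime q) := by
  classical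
  let B := MvPowerSeries (Fin d) A
  let C' : A →+* B := MvPowerSeries.C
  let cc : B →+* A := MvPowerSeries.constantCoeff
  have hcc : ∀ a, cc (C' a) = a := fun a => MvPowerSeries.constantCoeff_C a
  obtain ⟨N, hN⟩ := Ideal.exists_pow_le_of_le_radical_of_fg hq (IsNoetherian.noetherian _)
  let m := IsLocalRing.maximalIdeal A
  have hN' : ∀ a ∈ m ^ (N + 1), ∃ i ∈ q, cc i = a := fun a ha => by
    have h1 : C' a ∈ IsLocalRing.maximalIdeal B ^ (N + 1) := by
      have hle : m.map C' ≤ IsLocalRing.maximalIdeal B := Ideal.map_le_iff_le_comap.2 fun t ht => by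
        rw [Ideal.mem_comap, IsLocalRing.mem_maximalIdeal, mem_nonunits_iff]
        exact fun hu => (IsLocalRing.mem_maximalIdeal _).1 ht (hcc t ▸ hu.map cc)
      exact Ideal.pow_right_mono hle _ (Ideal.map_pow C' m (N + 1) ▸ Ideal.mem_map_of_mem _ ha)
    obtain ⟨i, hi, j, hj, hij⟩ := Submodule.mem_sup.1 (hN (Ideal.pow_le_pow_right (Nat.le_succ N) h1))
    refine ⟨i, hi, ?_⟩
    have h2 := congrArg cc hij
    rwa [map_add, (H02CA.PS.mem_vars_iff.1 hj : cc j = 0), add_zero, hcc] at h2
  have hdm : (2 : ℕ∞) ≤ LocCoh.idealDepth (m ^ (N + 1)) A := by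
    rw [H4Depth.idealDepth_eq_iInf_depth_localization]
    refine le_iInf₂ fun p hp => ?_
    have hle : m ^ (N + 1) ≤ p.asIdeal := hp
    have hpm : p.asIdeal = m := ((IsLocalRing.maximalIdeal.isMaximal A).eq_of_le p.isPrime.ne_top
      (p.isPrime.le_of_pow_le hle)).symm
    refine le_trans hA (le_trans ?_ (H4Depth.idealDepth_le_depth_localization p.asIdeal le_rfl))
    rw [hpm]
    exact le_rfl
  have hne : m ^ (N + 1) • (⊤ : Submodule A A) ≠ ⊤ := by
    rw [Ideal.smul_eq_mul, Ideal.mul_top]
    exact fun h => (IsLocalRing.maximalIdeal.isMaximal A).ne_top (eq_top_iff.2 (h.ge.trans (Ideal.pow_le_self (by omega))))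
  obtain ⟨rs, hlen, hmem, hreg⟩ := Groth.Agent.H4Depth.exists_isWeaklyRegular_of_le_idealDepth hne (n := 2) hdm
  match rs, hlen with
  | [x, y], _ =>
    obtain ⟨i₁, hi₁, hx⟩ := hN' x (hmem x (by simp))
    obtain ⟨i₂, hi₂, hy⟩ := hN' y (hmem y (by simp))
    haveI : Module.Flat (MvPolynomial (Fin d) A) B := by
      haveI : IsNoetherianRing (MvPolynomial (Fin d) A) := inferInstance
      haveI : Module.Flat (MvPolynomial (Fin d) A)
          (AdicCompletion (MvPolynomial.idealOfVars (Fin d) A) (MvPolynomial (Fin d) A)) :=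
        AdicCompletion.flat_of_isNoetherian _
      exact Module.Flat.of_linearEquiv (MvPowerSeries.toAdicCompletionAlgEquiv (Fin d) A).toLinearEquiv
    have h0 := (H29Slice.isWeaklyRegular_X_append A d hreg).of_flat (S := B)
    let Xs : List B := List.ofFn fun i : Fin d => MvPowerSeries.X i
    have h1 : IsWeaklyRegular B (Xs ++ [C' x, C' y]) := by
      have e : ((List.ofFn fun i : Fin d => (MvPolynomial.X i : MvPolynomial (Fin d) A)) ++
          [x, y].map MvPolynomial.C).map (algebraMap (MvPolynomial (Fin d) A) B) = Xs ++ [C' x, C' y] := by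
        simp [B, Xs, List.map_ofFn, Function.comp_def, C', MvPowerSeries.algebraMap_apply']
      rw [← e]; exact h0
    have hXs : Ideal.ofList Xs = H02CA.PS.vars (Fin d) A := by
      show Ideal.span {r | r ∈ Xs} = Ideal.span (Set.range MvPowerSeries.X)
      exact congrArg Ideal.span (Set.ext fun r => by simp [Xs])
    obtain ⟨hX, hxy⟩ := (isWeaklyRegular_append_iff _ _ _).1 h1
    let M := B ⧸ Ideal.ofList Xs • (⊤ : Submodule B B)
    have hact : ∀ (i : B) (a : A), cc i = a → ∀ z : M, i • z = C' a • z := fun i a h z => by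
      obtain ⟨z, rfl⟩ := Submodule.Quotient.mk_surjective _ z
      rw [← Submodule.Quotient.mk_smul, ← Submodule.Quotient.mk_smul, Submodule.Quotient.eq, ← sub_smul, hXs]
      refine Submodule.smul_mem_smul ?_ Submodule.mem_top
      rw [H02CA.PS.mem_vars_iff, map_sub]
      exact sub_eq_zero.2 (h.trans (hcc a).symm)
    have h2 : IsWeaklyRegular B (Xs ++ [i₁, i₂]) := by
      refine (isWeaklyRegular_append_iff _ _ _).2 ⟨hX, ?_⟩
      refine ((AddEquiv.refl M).isWeaklyRegular_congr ?_).1 hxy
      exact List.Forall₂.cons (fun z => (hact i₁ x hx z).symm)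
        (List.Forall₂.cons (fun z => (hact i₂ y hy z).symm) List.Forall₂.nil)
    have hmax : ∀ r ∈ Xs ++ [i₁, i₂], r ∈ IsLocalRing.maximalIdeal B := by
      intro r hr
      rcases List.mem_append.1 hr with h | h
      · obtain ⟨i, rfl⟩ := List.mem_ofFn.1 h
        rw [IsLocalRing.mem_maximalIdeal, mem_nonunits_iff]
        intro hu
        have := hu.map cc
        rw [show cc (MvPowerSeries.X i) = 0 from MvPowerSeries.constantCoeff_X _] at this
        exact not_isUnit_zero this
      · have hqm : q ≤ IsLocalRing.maximalIdeal B := IsLocalRing.le_maximalIdeal ‹q.IsPrime›.ne_top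
        simp only [List.mem_cons, List.not_mem_nil, or_false] at h
        rcases h with rfl | rfl
        · exact hqm hi₁
        · exact hqm hi₂
    have h3 : IsWeaklyRegular B ([i₁, i₂] ++ Xs) :=
      IsLocalRing.isWeaklyRegular_of_perm_of_subset_maximalIdeal h2 List.perm_append_comm hmax
    have h4 : (2 : ℕ∞) ≤ LocCoh.idealDepth q B := by
      have := H4Depth.length_le_idealDepth (I := q) ((isWeaklyRegular_append_iff _ _ _).1 h3).1
        (by simp [hi₁, hi₂])
      exact this
    refine h4.trans ((H4Depth.idealDepth_le_depth_localization q le_rfl).trans ?_)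
    obtain ⟨e⟩ := Groth.Agent.H4Depth.exists_localizedModule_self_equiv q
    rw [Groth.Agent.H4Depth.depth_congr e]

/-- Restriction from an open `V` of `Spec A⟦x⟧` to `V ∩ {x = 0}` is fully faithful if the latter is
the punctured spectrum of `A`. -/
theorem full_faithful_powerSeries (A : Type u) [CommRing A] [IsNoetherianRing A] [IsLocalRing A]
    (hA : (2 : ℕ∞) ≤ LocCoh.depth A A) (d : ℕ)
    (V : (Spec (CommRingCat.of (MvPowerSeries (Fin d) A))).Opens)
    (hV : ∀ y : PrimeSpectrum (MvPowerSeries (Fin d) A),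
      (∀ i : Fin d, MvPowerSeries.X i ∈ y.asIdeal) →
      (y ∈ V ↔ y ≠ IsLocalRing.closedPoint (MvPowerSeries (Fin d) A))) :
    (FEt.restrict (pullback.fst V.ι (Spec.map (CommRingCat.ofHom
      (MvPowerSeries.constantCoeff : MvPowerSeries (Fin d) A →+* A))))).Full ∧
    (FEt.restrict (pullback.fst V.ι (Spec.map (CommRingCat.ofHom
      (MvPowerSeries.constantCoeff : MvPowerSeries (Fin d) A →+* A))))).Faithful := by
  classical
  let B := MvPowerSeries (Fin d) A
  let cc : B →+* A := MvPowerSeries.constantCoeff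
  let J : Ideal B := H02CA.PS.vars (Fin d) A
  let IV : Ideal B := PrimeSpectrum.vanishingIdeal {p : PrimeSpectrum B | p ∉ V}
  have hIV : ∀ p : PrimeSpectrum B, p ∈ V ↔ ¬ IV ≤ p.asIdeal := fun p => by
    rw [← SetLike.coe_subset_coe, ← PrimeSpectrum.mem_zeroLocus, PrimeSpectrum.zeroLocus_vanishingIdeal_eq_closure,
      IsClosed.closure_eq (s := {p : PrimeSpectrum B | p ∉ V}) V.isOpen.isClosed_compl]
    exact not_not.symm
  have hrad : IV.IsRadical := PrimeSpectrum.isRadical_vanishingIdeal _
  have hsup : ∀ q : Ideal B, IV ≤ q → IsLocalRing.maximalIdeal B ≤ (q ⊔ J).radical := fun q hq => by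
    rw [Ideal.radical_eq_sInf]
    refine le_sInf fun p ⟨hp, hpp⟩ => ?_
    let P : PrimeSpectrum B := ⟨p, hpp⟩
    have hPV : P ∉ V := fun h => (hIV P).1 h (hq.trans (le_sup_left.trans hp))
    have hPX : ∀ i : Fin d, MvPowerSeries.X i ∈ P.asIdeal := fun i =>
      hp (Ideal.mem_sup_right (Ideal.subset_span ⟨i, rfl⟩))
    have : P = IsLocalRing.closedPoint B := by
      by_contra hne
      exact hPV ((hV P hPX).2 hne)
    exact (congrArg PrimeSpectrum.asIdeal this).ge
  have hU : DepthOutside (A := B) V := fun p hp => two_le_depth_of_sup_vars A hA d p.asIdeal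
    (hsup _ (by by_contra h; exact hp ((hIV p).2 h)))
  haveI : IsLocalHom (algebraMap A B) := ⟨fun a ha => by
    have := ha.map cc
    rwa [← MvPowerSeries.c_eq_algebraMap, show cc (MvPowerSeries.C a) = a from MvPowerSeries.constantCoeff_C a] at this⟩
  haveI : Module.Flat A B := flat_powerSeries A d
  obtain ⟨x, hx⟩ := exists_sat_of_two_le_depth hA
  -- gluing on the truncations
  obtain ⟨T, hT⟩ := (IsNoetherian.noetherian IV : IV.FG)
  let I₀ : Ideal B := (IsLocalRing.maximalIdeal A).map (algebraMap A B)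
  have hI₀ : I₀ ≤ IsLocalRing.maximalIdeal B := Ideal.map_le_iff_le_comap.2 fun a ha =>
    Ideal.mem_comap.2 (map_nonunit (algebraMap A B) a ha)
  have hsatn : ∀ n, ∃ i, Sat IV (B ⧸ J ^ n) i := fun n => by
    have hM : Sat I₀ (B ⧸ J ^ n) (algebraMap A B x) := (sat_quot_vars hx (Fin d) n).map_algebraMap
    have hrad' : IsLocalRing.maximalIdeal B ≤ (IV ⊔ J ^ n).radical := fun t ht => by
      have h1 := hsup IV le_rfl ht
      rw [Ideal.radical_sup] at h1 ⊢
      rcases Nat.eq_zero_or_pos n with rfl | hn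
      · rw [pow_zero, Ideal.one_eq_top, Ideal.radical_top, sup_top_eq, Ideal.radical_top]; exact Submodule.mem_top
      · rwa [Ideal.radical_pow J hn.ne']
    obtain ⟨k, hk⟩ := Ideal.exists_pow_le_of_le_radical_of_fg hrad' (IsNoetherian.noetherian _)
    obtain ⟨i, hi, j, hj, hij⟩ := Submodule.mem_sup.1 (hk (Ideal.pow_mem_pow (hI₀ hM.mem) k))
    have hkill : ∀ (t : B), t ∈ J ^ n → ∀ z : B ⧸ J ^ n, t • z = 0 := fun t ht z => by
      obtain ⟨z, rfl⟩ := Ideal.Quotient.mk_surjective z
      exact Ideal.Quotient.eq_zero_iff_mem.2 (Ideal.mul_mem_right _ _ ht)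
    have hact : ∀ z : B ⧸ J ^ n, i • z = algebraMap A B x ^ k • z := fun z => by
      rw [← hij, add_smul, hkill j hj, add_zero]
    refine ⟨i, hi, fun a b hab => (hM.reg.pow k) (show algebraMap A B x ^ k • a = algebraMap A B x ^ k • b from ?_),
      fun K z hz => ?_⟩
    · rw [← hact, ← hact]; exact hab
    · obtain ⟨w, hw⟩ := hM.sat_pow k (k * K) z fun y hy => by
        have hy' : y ∈ IV ^ K ⊔ J ^ n := by
          have h1 : (IV ⊔ J ^ n) ^ K ≤ IV ^ K ⊔ J ^ n := by
            clear hz hy
            induction K with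
            | zero => simp
            | succ K ih =>
              rw [pow_succ, pow_succ]
              refine (Ideal.mul_mono_left ih).trans ?_
              refine Ideal.mul_le.2 fun a ha b hb => ?_
              obtain ⟨a₁, h₁, a₂, h₂, rfl⟩ := Submodule.mem_sup.1 ha
              obtain ⟨b₁, g₁, b₂, g₂, rfl⟩ := Submodule.mem_sup.1 hb
              rw [add_mul, mul_add, add_assoc]
              exact add_mem (Ideal.mem_sup_left (Ideal.mul_mem_mul h₁ g₁))
                (Ideal.mem_sup_right (add_mem (Ideal.mul_mem_left _ _ g₂) (Ideal.mul_mem_right _ _ h₂)))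
          refine h1 (Ideal.pow_right_mono hk K ?_)
          rw [← pow_mul]
          exact Ideal.pow_right_mono hI₀ _ hy
        obtain ⟨a, ha, b, hb, rfl⟩ := Submodule.mem_sup.1 hy'
        obtain ⟨w, hw⟩ := hz a ha
        exact ⟨w, by rw [add_smul, hkill b hb, add_zero, hw, hact]⟩
      exact ⟨w, by rw [hw, hact]⟩
  obtain ⟨hs, hi⟩ := pro_of_sat_quotient hT J hsatn
  obtain ⟨xB, hxB⟩ := Groth.Agent.H18Pur.Pair.exists_sat_of_depth IV fun p _ hle =>
    hU ⟨p, inferInstance⟩ fun h => (hIV ⟨p, inferInstance⟩).1 h hle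
  have hπ : RingHom.ker cc = J := Ideal.ext fun f => by
    rw [RingHom.mem_ker]; exact (H02CA.PS.mem_vars_iff).symm
  have hπs : Function.Surjective cc := fun a => ⟨MvPowerSeries.C a, MvPowerSeries.constantCoeff_C a⟩
  have hm := meetsClopens_open hU hIV (J := J) (fun h => by
    have h1 : (1 : B) ∈ J := h ▸ Submodule.mem_top
    rw [← hπ, RingHom.mem_ker, map_one] at h1
    exact one_ne_zero h1) T hT hi cc hπs hπ
  exact ⟨Groth.Agent.H18Et.FEtRestrict.full _ hm
    (clopensDescend_open hU hIV hrad T hT hxB hs hi cc hπs hπ),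
    Groth.Agent.H18Et.FEtRestrict.faithful _ hm⟩

end Groth.Agent.H18Pur.Formal
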